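import Cfsg.Agent.H813.CV.X4p
import Cfsg.Agent.H72.CVU.Row

/-!
# S3442, row X5: `PSU_5(q)`, `q` odd (helper381; `r = 3` after helper813's X4', `r ≠ 3` helper72)
-/

set_option autoImplicit false
set_option linter.unusedSectionVars false

namespace Cfsg.Agent.H381.CV

open Cfsg Cfsg.Agent.LieClassical.HermBasic Cfsg.Agent.LieClassical.HermSiegel Cfsg.Agent.LieClassical.SUBasic
open Cfsg.Agent.H373.CV Cfsg.Agent.H813.CV Finset

universe u v

/-- **`PSU_5(q)`, `q` odd, `r = 3 ∣ q + 1`.** -/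
theorem hit_five_three {F : Type v} [Field F] [Fintype F] {q : ℕ} (hF : Fintype.card F = q ^ 2) (hq : Odd q)
    (h3 : 3 ∣ q + 1) : Hit.{u, v} 3 (PSU 5 F q) := by
  classical
  have h2 := two_le hF
  have hsim : IsSimpleGroup (PSU 5 F q) := Cfsg.Agent.S0283.result hF 5 (by omega) (by omega)
  obtain ⟨a, s, hs, hqa⟩ := Nat.exists_eq_pow_mul_and_not_dvd (n := q + 1) (by omega) 3 (by norm_num)
  have ha : 1 ≤ a := by
    rcases Nat.eq_zero_or_pos a with h | h
    · rw [h, pow_zero, one_mul] at hqa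
      rw [hqa] at h3
      exact absurd h3 hs
    · exact h
  have haq : 3 ^ a ∣ q + 1 := ⟨s, hqa⟩
  have haq' : ¬ 3 ^ (a + 1) ∣ q + 1 := by
    intro h
    rw [hqa, pow_succ] at h
    exact hs (Nat.dvd_of_mul_dvd_mul_left (by positivity) h)
  have e : Ix (3 ^ 1) 0 ≃ Fin 5 := Fintype.equivOfCardEq (by
    rw [Fintype.card_sum, Fintype.card_sum, ZMod.card, Fintype.card_fin, Fintype.card_fin, Fintype.card_fin]
    norm_num)
  obtain ⟨α, hα, ho⟩ : ∃ α : F, α ^ (q + 1) = 1 ∧ orderOf α = 3 ^ a := by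
    obtain ⟨g, hg⟩ := IsCyclic.exists_ofOrder_eq_natCard (α := Fˣ)
    rw [card_units_eq hF] at hg
    have h4 : 3 ^ a ∣ orderOf g := by rw [hg]; exact haq.mul_right _
    have h5 : orderOf g ≠ 0 := (orderOf_pos g).ne'
    have h6 := orderOf_pow_orderOf_div h5 h4
    refine ⟨((g ^ (orderOf g / 3 ^ a) : Fˣ) : F), ?_, ?_⟩
    · rw [← Units.val_pow_eq_pow_val]
      have h7 : (g ^ (orderOf g / 3 ^ a)) ^ (q + 1) = 1 := by
        rw [← orderOf_dvd_iff_pow_eq_one, h6]
        exact haq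
      rw [h7, Units.val_one]
    · rw [orderOf_units, h6]
  have hT := exists_freeU (F := F) (n := 5) hF (by omega) (by right; omega) Nat.prime_three
  refine hit_of_norm e hα ho ha le_rfl hF (by omega) hsim h3 (by norm_num) (by norm_num) haq' hT ?_
  intro W _ _ _ hW φ hφ
  exact norm_main e hα ho ha le_rfl hF (by omega) h3 (le_of_ne h2 haq le_rfl (by
    rintro ⟨-, rfl⟩
    exact absurd hq (by decide))) hW φ hφ

/-- **X5** -/
theorem x5 : ∀ (F : Type) [Field F] [Fintype F] (q : ℕ), Fintype.card F = q ^ 2 → Odd q →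
    ∀ (r : ℕ), r.Prime → r ∣ q + 1 → Hit.{u, 0} r (PSU 5 F q) := by
  intro F _ _ q hF hq r hr hrq
  by_cases h3 : r = 3
  · subst h3
    exact hit_five_three hF hq hrq
  · exact H72.CVU.x5 F q hF hq r hr h3 hrq

end Cfsg.Agent.H381.CV
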