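import Cfsg.Agent.H381.CV.UTriv
import Cfsg.Agent.H381.CV.USie
import Cfsg.Agent.H357.CV.Tool
import Cfsg.Agent.H149.PGU3
import Cfsg.Agent.S0283

/-!
# Row X4 of S3442 : `PSU_n(q)`, `n ≥ 7` odd, `r ∣ q + 1`, `r ≠ 3` or `3 ∣ n` (helper381)
-/

set_option autoImplicit false
set_option linter.unusedSectionVars false

namespace Cfsg.Agent.H381.CV

open Cfsg Cfsg.Agent.H373.CV

universe u v

/-- **The trivial module.** -/
theorem psu_triv {F : Type v} [Field F] [Fintype F] {p f n q : ℕ} (hp : p.Prime) [CharP F p] (hqf : q = p ^ f) (hf : 1 ≤ f)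
    (hF : Fintype.card F = q ^ 2) (hn : 5 ≤ n) {r : ℕ} (hr : r.Prime) (hrp : r ≠ p) (hrq : r ∣ q + 1)
    (h2 : r = 2 → Odd n) : ∃ x : PSU n F q, ¬ r ∣ orderOf x ∧ ∀ y : PSU n F q, orderOf y ≠ r * orderOf x := by
  have hcast : ∀ s : ℕ, s.Prime → s ≠ p → (s : F) ≠ 0 := by
    intro s hs hsp h0
    rw [CharP.cast_eq_zero_iff F p] at h0
    exact hsp (((Nat.dvd_prime hs).1 h0).resolve_left hp.one_lt.ne').symm
  have hRq : ∀ R i : ℕ, 2 ≤ i → orderOf (-(q : ZMod R)) = i → ¬ R ∣ q + 1 := by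
    intro R i hi hRo h
    have h3 : ((q + 1 : ℕ) : ZMod R) = 0 := (ZMod.natCast_eq_zero_iff _ _).2 h
    push_cast at h3
    have h4 : (-(q : ZMod R)) = 1 := by rw [neg_eq_iff_add_eq_zero, ← h3]
    rw [h4, orderOf_one] at hRo
    omega
  have hmk : ∀ R i : ℕ, R.Prime → 2 ≤ i → i ≤ n → orderOf (-(q : ZMod R)) = i →
      (∀ y : PSU n F q, orderOf y ≠ r * R) → ∃ x : PSU n F q, ¬ r ∣ orderOf x ∧ ∀ y : PSU n F q, orderOf y ≠ r * orderOf x := by
    intro R i hR hi hin hRo h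
    have := Fact.mk hR
    obtain ⟨x, hx⟩ := exists_prime_orderOf_dvd_card' R (H149.PGU.dvd_card_psu hF (by omega) hR hi hin hRo)
    refine ⟨x, ?_, fun y => by rw [hx]; exact h y⟩
    rw [hx]
    intro hd
    rw [(Nat.prime_dvd_prime_iff_eq hr hR).1 hd] at hrq
    exact hRq R i hi hRo hrq
  obtain ⟨a, s', hs, hq⟩ := Nat.exists_eq_pow_mul_and_not_dvd (by omega : q + 1 ≠ 0) r hr.ne_one
  obtain ⟨b, n', hn', hnb⟩ := Nat.exists_eq_pow_mul_and_not_dvd (by omega : n ≠ 0) r hr.ne_one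
  have ha : 1 ≤ a := by
    rcases Nat.eq_zero_or_pos a with h | h
    · rw [h, pow_zero, one_mul] at hq
      exact (hs (hq ▸ hrq)).elim
    · exact h
  rcases Nat.le_total b a with hba | hab
  · obtain ⟨R, hR, hRo, -, hRp, -⟩ := H149.NegPrime.exists_neg_prime (i := n) hp hqf hf (by omega) (by omega)
    exact hmk R n hR (by omega) le_rfl hRo
      (not_order_full hF (by omega) hR (hcast R hR hRp) hRo hr hq hs ha hnb hn' hba h2)
  · obtain ⟨R, hR, hRo, -, hRp, -⟩ := H149.NegPrime.exists_neg_prime (i := n - 1) hp hqf hf (by omega) (by omega)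
    refine hmk R (n - 1) hR (by omega) (by omega) hRo
      (not_order_pred hF (by omega) hR (hcast R hR hRp) hRo hr (hcast r hr hrp) hq hs ha ?_)
    rw [hnb]
    exact (pow_dvd_pow r hab).mul_right _

/-- **Row X4.** -/
theorem hit_psu_x4 {F : Type v} [Field F] [Fintype F] {p : ℕ} [Fact p.Prime] [CharP F p] {n q : ℕ}
    (hF : Fintype.card F = q ^ 2) (hn : 7 ≤ n) (hodd : Odd n) {r : ℕ} (hr : r.Prime) (hrp : r ≠ p) (hrq : r ∣ q + 1)
    (h3 : r ≠ 3 ∨ 3 ∣ n) : Hit.{u, v} r (PSU n F q) := by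
  have hp : p.Prime := Fact.out
  -- `q = p ^ f`
  obtain ⟨f, hf, hqf⟩ : ∃ f, 1 ≤ f ∧ q = p ^ f := by
    obtain ⟨e, -, he⟩ := FiniteField.card F p
    have h1 : q ∣ p ^ (e : ℕ) := by rw [← he, hF]; exact dvd_pow_self q two_ne_zero
    obtain ⟨f, -, hf⟩ := (Nat.dvd_prime_pow hp).1 h1
    refine ⟨f, ?_, hf⟩
    by_contra hcon
    have h2 : f = 0 := by omega
    rw [h2, pow_zero] at hf
    rw [hf, one_pow] at hF
    exact absurd hF (Fintype.one_lt_card (α := F)).ne'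
  have hq2 : 2 ≤ q := by
    rw [hqf]
    exact hp.two_le.trans (Nat.le_self_pow (by omega) p)
  have hcast : ∀ s : ℕ, s.Prime → s ≠ p → (s : F) ≠ 0 := by
    intro s hs hsp h0
    rw [CharP.cast_eq_zero_iff F p] at h0
    exact hsp (((Nat.dvd_prime hs).1 h0).resolve_left hp.one_lt.ne').symm
  have hsim : IsSimpleGroup (PSU n F q) := S0283.result hF n (by omega) (by omega)
  have hfin : Finite (PSU n F q) := inferInstance
  obtain ⟨k, hk⟩ : ∃ k, n = 2 * k + 3 := by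
    obtain ⟨t, ht⟩ := hodd
    exact ⟨t - 1, by omega⟩
  have hk2 : 2 ≤ k := by omega
  -- the prime `R`
  obtain ⟨R, hR, hRo, -, hRp, -⟩ := H149.NegPrime.exists_neg_prime (i := 2 * k) hp hqf hf (by omega) (by omega)
  have hrR : r ≠ R := by
    rintro rfl
    have h4 : ((q + 1 : ℕ) : ZMod r) = 0 := (ZMod.natCast_eq_zero_iff _ _).2 hrq
    push_cast at h4
    have h5 : (-(q : ZMod r)) = 1 := by rw [neg_eq_iff_add_eq_zero, ← h4]
    rw [h5, orderOf_one] at hRo
    omega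
  have hpos : 1 ≤ q ^ (2 * k) := Nat.one_le_pow _ _ (by omega)
  have hpos1 : 1 < q ^ (2 * k) := Nat.one_lt_pow (by omega) (by omega)
  obtain ⟨s, t, ht, hst⟩ := Nat.exists_eq_pow_mul_and_not_dvd (by omega : q ^ (2 * k) - 1 ≠ 0) r hr.ne_one
  have hRd : R ∣ q ^ (2 * k) - 1 := by
    have h1 : (-(q : ZMod R)) ^ (2 * k) = 1 := by rw [← hRo, pow_orderOf_eq_one]
    rw [← ZMod.natCast_eq_zero_iff, Nat.cast_sub hpos]
    push_cast
    rw [Even.neg_pow (even_two_mul k)] at h1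
    rw [h1, sub_self]
  have hRt : R ∣ t := by
    rw [hst] at hRd
    rcases (Nat.Prime.dvd_mul hR).1 hRd with h | h
    · exact absurd ((Nat.prime_dvd_prime_iff_eq hR hr).1 (hR.dvd_of_dvd_pow h)).symm hrR
    · exact h
  have ho : r ^ s * R ∣ q ^ (2 * k) - 1 := by
    rw [hst]
    exact Nat.mul_dvd_mul_left _ hRt
  -- `r`-powers dividing `q ^ (2 k) - 1`
  have hpw : ∀ j t' : ℕ, j ∣ q ^ (2 * k) - 1 → j ∣ r ^ t' → j ∣ r ^ s := by
    intro j t' h1 h2
    rw [hst] at h1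
    exact (Nat.Coprime.of_dvd_left h2 (Nat.Coprime.pow_left t' ((Nat.Prime.coprime_iff_not_dvd hr).2 ht))).dvd_of_dvd_mul_right h1
  have hq2k : q ^ 2 - 1 ∣ q ^ (2 * k) - 1 := by
    rw [pow_mul]
    exact Nat.sub_one_dvd_pow_sub_one _ _
  have hq1 : q + 1 ∣ q ^ (2 * k) - 1 := by
    refine dvd_trans ⟨q - 1, ?_⟩ hq2k
    obtain ⟨c, rfl⟩ : ∃ c, q = c + 1 := ⟨q - 1, by omega⟩
    have : (c + 1) ^ 2 = (c + 1 + 1) * (c + 1 - 1) + 1 := by rw [Nat.add_sub_cancel]; ring
    omega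
  obtain ⟨U, c, hU, hc, hn1, hfree⟩ := exists_frob hF (k := k) (n := n) (by omega) hk ho
  refine H357.CV.hit_of_frob hr (psu_triv hp hqf hf hF (by omega) hr hrp hrq (fun _ => hodd)) U ?_ ?_ c hn1 hfree ?_
  · rintro rfl
    rw [Subgroup.card_bot] at hU
    omega
  · rw [hU]
    intro h
    have h4 := hr.dvd_of_dvd_pow h
    exact hr.one_lt.ne' (Nat.dvd_one.1 ((Nat.dvd_add_right h4).1 hrq))
  · intro y hy
    rw [hc] at hy
    have h4 : orderOf y = r ^ (s + 1) * R := by rw [hy, pow_succ]; ring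
    have h5 := psu_rpart hF (by omega) hR hRo (by omega) hr (hcast r hr hrp) (hcast R hR hRp) (N := r ^ s) ?_ h4
    · rw [pow_succ] at h5
      have h6 := Nat.le_of_dvd (pow_pos hr.pos s) h5
      have h7 : r ^ s * 2 ≤ r ^ s * r := Nat.mul_le_mul_left _ hr.two_le
      have := pow_pos hr.pos s
      omega
    · intro j hj t'
      -- reduce to divisors of `q ^ (2 k) - 1`
      have hred : ∀ z : ℕ, z ∣ q ^ (2 * k) - 1 → ((-(q : ℤ)) ^ j - 1 = (z : ℤ) ∨ (-(q : ℤ)) ^ j - 1 = -(z : ℤ)) →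
          Int.gcd ((r ^ t' : ℕ) : ℤ) ((-(q : ℤ)) ^ j - 1) ∣ r ^ s := by
        intro z hz hzj
        have h6 : Int.gcd ((r ^ t' : ℕ) : ℤ) ((-(q : ℤ)) ^ j - 1) = Nat.gcd (r ^ t') z := by
          rcases hzj with h | h
          · rw [h]; rfl
          · rw [h, Int.gcd_neg]; rfl
        rw [h6]
        exact hpw _ t' ((Nat.gcd_dvd_right _ _).trans hz) (Nat.gcd_dvd_left _ _)
      have hcases : j = 2 * k ∨ j = 1 ∨ j = 2 ∨ j = 3 := by omega
      rcases hcases with rfl | rfl | rfl | rfl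
      · refine hred _ dvd_rfl (Or.inl ?_)
        rw [Even.neg_pow (even_two_mul k), Nat.cast_sub hpos]
        push_cast
        ring
      · refine hred _ hq1 (Or.inr ?_)
        push_cast
        ring
      · refine hred _ hq2k (Or.inl ?_)
        rw [Nat.cast_sub (Nat.one_le_pow _ _ (by omega))]
        push_cast
        ring
      · by_cases h3n : 3 ∣ n
        · -- `6 ∣ 2 k`
          refine hred (q ^ 3 + 1) ?_ (Or.inr (by push_cast; ring))
          obtain ⟨e, he⟩ : 3 ∣ k := by omega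
          have h7 : q ^ (2 * k) = (q ^ 6) ^ e := by rw [he, ← pow_mul]; congr 1; ring
          rw [h7]
          refine dvd_trans ⟨q ^ 3 - 1, ?_⟩ (Nat.sub_one_dvd_pow_sub_one _ _)
          obtain ⟨c, hc⟩ : ∃ c, q ^ 3 = c + 1 := ⟨q ^ 3 - 1, by have := Nat.one_le_pow 3 q (by omega); omega⟩
          have h8 : q ^ 6 = (c + 1) ^ 2 := by rw [← hc]; ring
          rw [h8, hc]
          have : (c + 1) ^ 2 = (c + 1 + 1) * (c + 1 - 1) + 1 := by rw [Nat.add_sub_cancel]; ring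
          omega
        · have hr3 : r ≠ 3 := h3.resolve_right h3n
          -- `r` does not divide `q ^ 2 - q + 1`
          obtain ⟨w, hw⟩ : ∃ w, w + q = q ^ 2 + 1 := ⟨q ^ 2 + 1 - q, Nat.sub_add_cancel (by nlinarith)⟩
          have hrw : ¬ r ∣ w := by
            intro h
            have h8 : w + 3 * q = (q + 1) * (q + 1) := by nlinarith
            have h9 : r ∣ 3 * q := by
              have h10 : r ∣ w + 3 * q := by rw [h8]; exact hrq.mul_right _
              exact (Nat.dvd_add_right h).1 h10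
            rcases (Nat.Prime.dvd_mul hr).1 h9 with h10 | h10
            · exact hr3 ((Nat.prime_dvd_prime_iff_eq hr Nat.prime_three).1 h10)
            · exact hr.one_lt.ne' (Nat.dvd_one.1 ((Nat.dvd_add_right h10).1 hrq))
          have h8 : (-(q : ℤ)) ^ 3 - 1 = -(((q + 1) * w : ℕ) : ℤ) := by
            have h9 : (w : ℤ) = (q : ℤ) ^ 2 + 1 - q := by
              have : ((w + q : ℕ) : ℤ) = ((q ^ 2 + 1 : ℕ) : ℤ) := by rw [hw]
              push_cast at this
              linarith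
            push_cast
            rw [h9]
            ring
          have h9 : Int.gcd ((r ^ t' : ℕ) : ℤ) ((-(q : ℤ)) ^ 3 - 1) = Nat.gcd (r ^ t') ((q + 1) * w) := by
            rw [h8, Int.gcd_neg]; rfl
          rw [h9]
          refine hpw _ t' ?_ (Nat.gcd_dvd_left _ _)
          refine dvd_trans ?_ hq1
          have hcop : Nat.Coprime (Nat.gcd (r ^ t') ((q + 1) * w)) w :=
            Nat.Coprime.of_dvd_left (Nat.gcd_dvd_left _ _)
              (Nat.Coprime.pow_left t' ((Nat.Prime.coprime_iff_not_dvd hr).2 hrw))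
          exact hcop.dvd_of_dvd_mul_right (Nat.gcd_dvd_right _ _)

end Cfsg.Agent.H381.CV
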