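import Cfsg.Agent.H381.CV.UOrb

/-!
# Primes `r ∣ q + 1` not adjacent to `R_n` resp. `R_(n-1)` in `PSU_n(q)` (S3442, helper381)

* `not_order_full` : `ord_R (-q) = n`, `v_r(n) ≤ v_r(q+1)`: no element of order `r * R`;
* `not_order_pred` : `ord_R (-q) = n - 1`, `v_r(q+1) ≤ v_r(n)`: no element of order `r * R`.
-/

set_option autoImplicit false
set_option linter.unusedSectionVars false

namespace Cfsg.Agent.H381.CV

open Matrix Cfsg Cfsg.Agent.H364.Unitary Cfsg.Agent.H364.Regular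

theorem dvd_neg_pow_sub (q i : ℕ) : ((q + 1 : ℕ) : ℤ) ∣ (-(q : ℤ)) ^ i - 1 := by
  have h3 := sub_dvd_pow_sub_pow (-(q : ℤ)) 1 i
  rw [one_pow] at h3
  refine dvd_trans ?_ h3
  exact ⟨-1, by push_cast; ring⟩

theorem dvd_sg_sub (q n : ℕ) : ((q + 1 : ℕ) : ℤ) ∣ sg q n - n := by
  rw [sg]
  have h4 : ∑ i ∈ Finset.range n, (-(q : ℤ)) ^ i - n = ∑ i ∈ Finset.range n, ((-(q : ℤ)) ^ i - 1) := by
    rw [Finset.sum_sub_distrib]; simp
  rw [h4]
  exact Finset.dvd_sum fun i _ => dvd_neg_pow_sub q i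

/-- the `r`-part of `sg q n`, `r ∣ q + 1` -/
theorem sg_rpart {q n r a b s' n' : ℕ} (hr : r.Prime) (hq : q + 1 = r ^ a * s') (hs : ¬ r ∣ s') (ha : 1 ≤ a)
    (hn : n = r ^ b * n') (hn' : ¬ r ∣ n') (h2 : r = 2 → Odd n) : ¬ ((r ^ (b + 1) : ℕ) : ℤ) ∣ sg q n := by
  have hrq : r ∣ q + 1 := by rw [hq]; exact (dvd_pow_self r (by omega)).mul_right _
  by_cases hr2 : r = 2
  · -- `n` odd
    subst hr2
    have hodd := h2 rfl
    intro h
    have h1 : (2 : ℤ) ∣ sg q n := by
      refine dvd_trans ?_ h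
      exact_mod_cast dvd_pow_self 2 (by omega)
    have h3 : (2 : ℤ) ∣ sg q n - n := by
      refine dvd_trans ?_ (dvd_sg_sub q n)
      exact_mod_cast hrq
    have h4 : (2 : ℤ) ∣ (n : ℤ) := by
      have := dvd_sub h1 h3
      rwa [sub_sub_cancel] at this
    have h5 : 2 ∣ n := by exact_mod_cast h4
    exact Nat.not_even_iff_odd.2 hodd (even_iff_two_dvd.2 h5)
  · intro h
    have hodd : Odd r := hr.odd_of_ne_two hr2
    have hpi : Prime (r : ℤ) := Nat.prime_iff_prime_int.1 hr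
    have hn0 : n' ≠ 0 := by rintro rfl; exact hn' (dvd_zero r)
    have hx : ¬ (r : ℤ) ∣ -(q : ℤ) := by
      intro hd
      rw [dvd_neg] at hd
      have h3 : r ∣ q := by exact_mod_cast hd
      exact hr.one_lt.ne' (Nat.dvd_one.1 ((Nat.dvd_add_right h3).1 hrq))
    have hxy : (r : ℤ) ∣ -(q : ℤ) - 1 := by
      have h3 : (r : ℤ) ∣ ((q + 1 : ℕ) : ℤ) := by exact_mod_cast hrq
      have h4 : -(q : ℤ) - 1 = -((q + 1 : ℕ) : ℤ) := by push_cast; ring
      rw [h4, dvd_neg]
      exact h3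
    have key := Int.emultiplicity_pow_sub_pow hr hodd hxy hx n
    have hm1 : emultiplicity (r : ℤ) (-(q : ℤ) - 1) = a := by
      have h4 : -(q : ℤ) - 1 = -((q + 1 : ℕ) : ℤ) := by push_cast; ring
      rw [h4, emultiplicity_neg, Int.natCast_emultiplicity, hq]
      exact (emultiplicity_eq_coe).2 ⟨dvd_mul_right _ _, fun hd => by
        rw [pow_succ] at hd
        exact hs (Nat.dvd_of_mul_dvd_mul_left (pow_pos hr.pos a) hd)⟩
    have hm2 : emultiplicity r n = b := by
      rw [hn]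
      exact (emultiplicity_eq_coe).2 ⟨dvd_mul_right _ _, fun hd => by
        rw [pow_succ] at hd
        exact hn' (Nat.dvd_of_mul_dvd_mul_left (pow_pos hr.pos b) hd)⟩
    rw [hm1, hm2, one_pow] at key
    have h5 : (r : ℤ) ^ (a + b + 1) ∣ (-(q : ℤ)) ^ n - 1 := by
      rw [← sg_mul, show a + b + 1 = (b + 1) + a by ring, pow_add]
      apply mul_dvd_mul
      · exact_mod_cast h
      · have h4 : -(q : ℤ) - 1 = -((q + 1 : ℕ) : ℤ) := by push_cast; ring
        rw [h4, dvd_neg, hq]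
        push_cast
        exact dvd_mul_right _ _
    have h6 := le_emultiplicity_of_pow_dvd h5
    rw [key] at h6
    have h7 : ((a + b + 1 : ℕ) : ℕ∞) ≤ ((a + b : ℕ) : ℕ∞) := by
      rw [Nat.cast_add a b]; exact h6
    have := Nat.cast_le.1 h7
    omega

variable {F : Type*} [Field F] [Fintype F] {n q : ℕ}

/-- **`R_n`.** -/
theorem not_order_full (hF : Fintype.card F = q ^ 2) (hn3 : 3 ≤ n) {R : ℕ} (hR : R.Prime) (hRF : (R : F) ≠ 0)
    (hRn : orderOf (-(q : ZMod R)) = n) {r a b s' n' : ℕ} (hr : r.Prime) (hq : q + 1 = r ^ a * s') (hs : ¬ r ∣ s')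
    (ha : 1 ≤ a) (hn : n = r ^ b * n') (hn' : ¬ r ∣ n') (hba : b ≤ a) (h2 : r = 2 → Odd n) (y : PSU n F q) :
    orderOf y ≠ r * R := by
  intro hy
  have h1 := psu_orderOf_dvd hF hR hRF (by omega) hn3 hRn (x := y) (by rw [hy]; exact dvd_mul_left R r)
  rw [hy] at h1
  have h3 : r ∣ (sg q n).natAbs / Nat.gcd n (q + 1) := (dvd_mul_right r R).trans h1
  have hg : Nat.gcd n (q + 1) ∣ (sg q n).natAbs := Int.natCast_dvd.1 (dvd_sg q n)
  have h4 : Nat.gcd n (q + 1) * r ∣ (sg q n).natAbs := by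
    have := Nat.mul_dvd_mul_left (Nat.gcd n (q + 1)) h3
    rwa [Nat.mul_div_cancel' hg] at this
  have h5 : r ^ b ∣ Nat.gcd n (q + 1) := by
    apply Nat.dvd_gcd
    · rw [hn]; exact dvd_mul_right _ _
    · rw [hq]; exact (pow_dvd_pow r hba).mul_right _
  have h6 : r ^ (b + 1) ∣ (sg q n).natAbs := by
    rw [pow_succ]
    exact (Nat.mul_dvd_mul_right h5 r).trans h4
  exact sg_rpart hr hq hs ha hn hn' h2 (Int.natCast_dvd.2 h6)

/-- `X ^ s` is not the scalar `c` -/
theorem exists_eigen_scal {L V : Type*} [Field L] [IsAlgClosed L] [AddCommGroup V] [Module L V]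
    [FiniteDimensional L V] (X : Module.End L V) {r s : ℕ} (hs0 : 0 < s) (hr : (r : L) ≠ 0) {c : L} (hc : c ^ r = 1)
    (h1 : (X ^ s) ^ r = 1) (h2 : X ^ s ≠ c • (1 : Module.End L V)) : ∃ a : L, X.HasEigenvalue a ∧ a ^ s ≠ c := by
  have hr0 : r ≠ 0 := by rintro rfl; exact hr (by simp)
  have hc0 : c ≠ 0 := by
    rintro rfl
    rw [zero_pow hr0] at hc
    exact zero_ne_one hc
  obtain ⟨d, hd⟩ := IsAlgClosed.exists_pow_nat_eq c hs0
  have hd0 : d ≠ 0 := by
    rintro rfl
    rw [zero_pow hs0.ne'] at hd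
    exact hc0 hd.symm
  obtain ⟨a, ha, ha1⟩ := Cfsg.Agent.H376.SpOrbit.exists_eigen (d⁻¹ • X) (r := r) (s := s) hr (by
    rw [smul_pow, smul_pow, h1, inv_pow, hd, inv_pow, hc, inv_one, one_smul]) (by
    intro h
    apply h2
    rw [smul_pow, inv_pow, hd] at h
    rw [← h, smul_smul, mul_inv_cancel₀ hc0, one_smul])
  obtain ⟨v, hv⟩ := ha.exists_hasEigenvector
  refine ⟨d * a, Module.End.hasEigenvalue_of_hasEigenvector (x := v) ⟨Module.End.mem_eigenspace_iff.2 ?_, hv.2⟩, ?_⟩
  · have h3 := hv.apply_eq_smul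
    rw [LinearMap.smul_apply] at h3
    rw [← smul_smul, ← h3, smul_smul, mul_inv_cancel₀ hd0, one_smul]
  · intro h
    apply ha1
    rw [mul_pow, hd] at h
    exact mul_left_cancel₀ hc0 (by rw [h, mul_one])

/-- **`R_(n-1)`.** -/
theorem not_order_pred (hF : Fintype.card F = q ^ 2) (hn3 : 4 ≤ n) {R : ℕ} (hR : R.Prime) (hRF : (R : F) ≠ 0)
    (hRn : orderOf (-(q : ZMod R)) = n - 1) {r a s' : ℕ} (hr : r.Prime) (hrF : (r : F) ≠ 0) (hq : q + 1 = r ^ a * s')
    (hs : ¬ r ∣ s') (ha : 1 ≤ a) (han : r ^ a ∣ n) (y : PSU n F q) : orderOf y ≠ r * R := by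
  classical
  intro hy
  have hrq : r ∣ q + 1 := by rw [hq]; exact (dvd_pow_self r (by omega)).mul_right _
  have hRq : ¬ R ∣ q + 1 := by
    intro h
    have h3 : ((q + 1 : ℕ) : ZMod R) = 0 := (ZMod.natCast_eq_zero_iff _ _).2 h
    push_cast at h3
    have h4 : (-(q : ZMod R)) = 1 := by rw [neg_eq_iff_add_eq_zero, ← h3]
    rw [h4, orderOf_one] at hRn
    omega
  have hs0 : 0 < s' := by
    rcases Nat.eq_zero_or_pos s' with h | h
    · rw [h, mul_zero] at hq; omega
    · exact h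
  obtain ⟨g, rfl⟩ := QuotientGroup.mk_surjective y
  have h1 : g ^ (r * R) ∈ Subgroup.center (SU n F q) := by
    rw [← QuotientGroup.eq_one_iff, QuotientGroup.mk_pow, ← hy, pow_orderOf_eq_one]
  have h2 : g ^ (r * R * (q + 1)) = 1 := by rw [pow_mul]; exact center_pow hF (by omega) h1
  have h3 : g ^ (r * (q + 1)) ≠ 1 := by
    intro h
    have h4 : (QuotientGroup.mk g : PSU n F q) ^ (r * (q + 1)) = 1 := by
      rw [← QuotientGroup.mk_pow, h]; rfl
    have h5 := orderOf_dvd_of_pow_eq_one h4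
    rw [hy] at h5
    exact hRq (Nat.dvd_of_mul_dvd_mul_left hr.pos h5)
  let K := AlgebraicClosure F
  have hRK : (R : K) ≠ 0 := by
    intro h
    apply hRF
    apply (algebraMap F K).injective
    rw [map_natCast, h, map_zero]
  have hrK : (r : K) ≠ 0 := by
    intro h
    apply hrF
    apply (algebraMap F K).injective
    rw [map_natCast, h, map_zero]
  -- the big orbit
  set e := r * (q + 1) with he
  obtain ⟨l, hl, hl1⟩ := exists_Ev (K := K) hRF (g := g) (s := e) (by rw [← pow_mul, ← h2, he]; congr 1; ring) h3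
  have hl0 := ne_zero_Ev hF hl
  have hlp := pow_Ev h2 hl
  have hprim : IsPrimitiveRoot (l ^ e) R := by
    have := Fact.mk hR
    rw [IsPrimitiveRoot.iff_orderOf]
    refine orderOf_eq_prime ?_ hl1
    rw [← pow_mul, ← hlp, he]; congr 1; ring
  have hper : ∀ i, (tau q)^[i] l = l → n - 1 ∣ i := by
    intro i hi
    rw [tau_iter_eq hl0] at hi
    have h2 : (l ^ e) ^ ((-(q : ℤ)) ^ i - 1) = 1 := by
      rw [← zpow_natCast, ← _root_.zpow_mul, mul_comm, _root_.zpow_mul, hi, _root_.one_zpow]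
    have h3 := (hprim.zpow_eq_one_iff_dvd _).1 h2
    rw [← ZMod.intCast_zmod_eq_zero_iff_dvd] at h3
    push_cast at h3
    rw [← hRn]
    exact orderOf_dvd_of_pow_eq_one (sub_eq_zero.1 h3)
  obtain ⟨hlm, -⟩ := orbit_cases (tau_injective (K := K) hF) (R := Ev K g) (fun x hx => next_Ev hF hx) (card_Ev g)
    (by omega : n < 2 * (n - 1)) hl hper
  rw [tau_iter_eq hl0] at hlm
  -- `lam = l ^ (R s')` is an `r`-element
  set lam := l ^ (R * s') with hlam
  have hlam0 : lam ≠ 0 := pow_ne_zero _ hl0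
  have hlam1 : lam ^ r ^ (a + 1) = 1 := by
    rw [hlam, ← pow_mul, ← hlp]
    congr 1
    rw [hq, pow_succ]; ring
  have hrn : r ∣ n := (dvd_pow_self r (by omega)).trans han
  have hsgr : ¬ (r : ℤ) ∣ sg q (n - 1) := by
    intro h
    have h4 : (r : ℤ) ∣ sg q (n - 1) - ((n - 1 : ℕ) : ℤ) := by
      refine dvd_trans ?_ (dvd_sg_sub q (n - 1))
      exact_mod_cast hrq
    have h5 : (r : ℤ) ∣ ((n - 1 : ℕ) : ℤ) := by
      have := dvd_sub h h4
      rwa [sub_sub_cancel] at this
    have h6 : r ∣ n - 1 := by exact_mod_cast h5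
    have h7 : r ∣ 1 := by
      have := Nat.dvd_sub hrn h6
      rwa [show n - (n - 1) = 1 by omega] at this
    exact hr.one_lt.ne' (Nat.dvd_one.1 h7)
  have hlamq : lam ^ (q + 1) = 1 := by
    have h4 : (lam ^ (q + 1)) ^ r ^ (a + 1) = 1 := by rw [← pow_mul, mul_comm, pow_mul, hlam1, one_pow]
    have h5 : lam ^ ((-(q : ℤ)) ^ (n - 1) - 1) = 1 := by
      rw [hlam, ← zpow_natCast, ← _root_.zpow_mul, mul_comm, _root_.zpow_mul, hlm, _root_.one_zpow]
    have h6 : (lam ^ (q + 1)) ^ (sg q (n - 1)) = 1 := by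
      rw [← zpow_natCast, ← _root_.zpow_mul, ← _root_.inv_inj, ← _root_.zpow_neg, inv_one, ← h5]
      congr 1
      rw [← sg_mul]; push_cast; ring
    have h7 := pow_eq_one_of_zpow (N := 1) h4 h6 (by
      rw [Nat.dvd_one]
      have hcop : IsCoprime ((r : ℤ)) (sg q (n - 1)) := by
        rw [Int.isCoprime_iff_gcd_eq_one]
        have hp := Nat.prime_iff_prime_int.1 hr
        exact (Int.isCoprime_iff_gcd_eq_one).1 ((Prime.coprime_iff_not_dvd hp).2 hsgr)
      have h8 := (hcop.pow_left (m := a + 1))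
      rw [Int.isCoprime_iff_gcd_eq_one] at h8
      push_cast
      exact h8)
    rwa [pow_one] at h7
  have hlamn : lam ^ n = 1 := by
    have h4 : lam ^ r ^ a = 1 := by
      have h5 := orderOf_dvd_of_pow_eq_one hlamq
      have h6 := orderOf_dvd_of_pow_eq_one hlam1
      rw [hq] at h5
      have h7 : Nat.Coprime (orderOf lam) s' :=
        Nat.Coprime.of_dvd_left h6 (Nat.Coprime.pow_left _ ((Nat.Prime.coprime_iff_not_dvd hr).2 hs))
      exact orderOf_dvd_iff_pow_eq_one.1 (h7.dvd_of_dvd_mul_right h5)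
    obtain ⟨k, hk⟩ := han
    rw [hk, pow_mul, h4, one_pow]
  have hlamz : ∀ z : ℤ, ((q + 1 : ℕ) : ℤ) ∣ z - 1 → lam ^ z = lam := by
    rintro z ⟨k, hk⟩
    rw [show z = ((q + 1 : ℕ) : ℤ) * k + 1 by rw [← hk]; ring, zpow_add₀ hlam0, _root_.zpow_mul, zpow_natCast, hlamq,
      _root_.one_zpow, one_mul, _root_.zpow_one]
  -- the roots of the characteristic polynomial
  set M := (mK K g).charpoly.roots with hM
  have hMcard : Multiset.card M = n := by
    rw [hM, IsAlgClosed.card_roots_eq_natDegree, Matrix.charpoly_natDegree_eq_dim, Fintype.card_fin]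
  have hMprod : M.prod = 1 := by
    rw [hM, ← Matrix.det_eq_prod_roots_charpoly, mK_det]
  set O : Finset K := (Finset.range (n - 1)).image (fun i => (tau q)^[i] l) with hO
  have hinj : Set.InjOn (fun i => (tau q)^[i] l) (Finset.range (n - 1) : Set ℕ) := by
    have key : ∀ i j, i < j → j < n - 1 → (tau q)^[i] l ≠ (tau q)^[j] l := by
      intro i j hij hj e
      have h1 : (tau q)^[j - i] l = l := by
        apply (tau_injective (K := K) hF).iterate i
        rw [← Function.iterate_add_apply, show i + (j - i) = j by omega]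
        exact e.symm
      have h2 := Nat.le_of_dvd (by omega) (hper _ h1)
      omega
    intro i hi j hj e
    rw [Finset.mem_coe, Finset.mem_range] at hi hj
    by_contra hne
    rcases Nat.lt_or_gt_of_ne hne with h | h
    · exact key i j h hj e
    · exact key j i h hi e.symm
  have hOcard : O.card = n - 1 := by rw [hO, Finset.card_image_of_injOn hinj, Finset.card_range]
  have hOM : O.val ≤ M := by
    rw [Multiset.le_iff_subset O.nodup]
    intro x hx
    rw [Finset.mem_val, hO, Finset.mem_image] at hx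
    obtain ⟨i, -, rfl⟩ := hx
    have hmem : ∀ i, (tau q)^[i] l ∈ Ev K g := by
      intro i
      induction i with
      | zero => exact hl
      | succ i ih => rw [Function.iterate_succ_apply']; exact next_Ev hF ih
    have := hmem i
    rwa [Ev, Multiset.mem_toFinset] at this
  obtain ⟨M', hM'⟩ := Multiset.le_iff_exists_add.1 hOM
  have hM'card : Multiset.card M' = 1 := by
    have h4 := congrArg Multiset.card hM'
    rw [Multiset.card_add, hMcard, Finset.card_val, hOcard] at h4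
    omega
  obtain ⟨b, hb⟩ := Multiset.card_eq_one.1 hM'card
  have hprod : l ^ (sg q (n - 1)) * b = 1 := by
    rw [← hMprod, hM', Multiset.prod_add, hb, Multiset.prod_singleton]
    congr 1
    have h4 : O.val.prod = ∏ x ∈ O, x := by rw [Finset.prod_eq_multiset_prod, Multiset.map_id']
    rw [h4, hO, Finset.prod_image hinj]
    simp only [tau_iter]
    rw [sg]
    have : ∀ s : Finset ℕ, ∏ i ∈ s, l ^ ((-(q : ℤ)) ^ i) = l ^ (∑ i ∈ s, (-(q : ℤ)) ^ i) := by
      intro s
      induction s using Finset.induction_on with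
      | empty => simp
      | insert a s ha ih => rw [Finset.prod_insert ha, Finset.sum_insert ha, zpow_add₀ hl0, ih]
    exact (this _).symm
  -- all eigenvalues of `g ^ (R s')` are `lam`
  have hall : ∀ x ∈ Ev K g, x ^ (R * s') = lam := by
    intro x hx
    rw [Ev, Multiset.mem_toFinset, ← hM, hM', hb, Multiset.mem_add, Multiset.mem_singleton, Finset.mem_val, hO,
      Finset.mem_image] at hx
    rcases hx with ⟨i, -, rfl⟩ | rfl
    · rw [tau_iter, ← zpow_natCast, ← _root_.zpow_mul, mul_comm, _root_.zpow_mul, zpow_natCast, ← hlam]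
      exact hlamz _ (dvd_neg_pow_sub q i)
    · have h4 : x = l ^ (-(sg q (n - 1))) := by
        rw [_root_.zpow_neg]
        exact eq_inv_of_mul_eq_one_right hprod
      rw [h4, ← zpow_natCast, ← _root_.zpow_mul, mul_comm, _root_.zpow_mul, zpow_natCast, ← hlam]
      have h5 : lam ^ (-(sg q (n - 1))) = lam ^ (-(sg q (n - 1)) + n) := by
        rw [zpow_add₀ hlam0, zpow_natCast, hlamn, mul_one]
      rw [h5]
      apply hlamz
      have h6 := dvd_sg_sub q (n - 1)
      rw [← dvd_neg] at h6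
      have h7 : -(sg q (n - 1) - ((n - 1 : ℕ) : ℤ)) = -sg q (n - 1) + (n : ℤ) - 1 := by
        rw [Nat.cast_sub (by omega)]; push_cast; ring
      rwa [h7] at h6
  have hsc : (mK K g).toLin' ^ (R * s') = lam • (1 : Module.End K (Fin n → K)) := by
    by_contra hne
    obtain ⟨x, hx, hx1⟩ := exists_eigen_scal (mK K g).toLin' (r := r ^ (a + 1)) (s := R * s')
      (Nat.mul_pos hR.pos hs0) (by push_cast; exact pow_ne_zero _ hrK) hlam1 (by
        rw [← pow_mul, ← Matrix.toLin'_pow, ← mK_pow, show R * s' * r ^ (a + 1) = r * R * (q + 1) by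
          rw [hq, pow_succ]; ring, h2, mK_one, Matrix.toLin'_one]
        rfl) hne
    exact hx1 (hall x (mem_Ev'.2 hx))
  have hsc2 : mK K (g ^ (R * s')) = Matrix.scalar (Fin n) lam := by
    apply Matrix.toLin'.injective
    rw [mK_pow, Matrix.toLin'_pow, hsc]
    ext i j
    simp [Matrix.toLin'_apply, Matrix.scalar_apply, Matrix.mulVec_diagonal]
  have hcen : g ^ (R * s') ∈ Subgroup.center (SU n F q) := by
    rw [Subgroup.mem_center_iff]
    intro g'
    apply mK_injective K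
    rw [mK_mul, mK_mul, hsc2]
    exact (Matrix.scalar_commute lam (fun x => mul_comm _ _) (mK K g')).symm.eq
  have h4 : (QuotientGroup.mk g : PSU n F q) ^ (R * s') = 1 := by
    rw [← QuotientGroup.mk_pow]
    exact (QuotientGroup.eq_one_iff _).2 hcen
  have h5 := orderOf_dvd_of_pow_eq_one h4
  rw [hy, mul_comm r R] at h5
  exact hs (Nat.dvd_of_mul_dvd_mul_left hR.pos h5)

end Cfsg.Agent.H381.CV
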